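import Cfsg.Agent.Lib.FusionHeis.Core
import Cfsg.Agent.Lib.ClassicalLinear.Sylow

/-!
A Sylow subgroup of `SL₃` in the defining characteristic has Heisenberg shape.
-/

set_option autoImplicit false
set_option linter.unusedSectionVars false

namespace CfsgLib.FusionHeis

open Matrix

universe u v

variable {K : Type v} [Field K]

/-- Upper unitriangular matrices. -/
def uni (a b d : K) : SpecialLinearGroup (Fin 3) K :=
  ⟨!![1, a, d; 0, 1, b; 0, 0, 1], by simp [Matrix.det_fin_three]⟩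

theorem uni_mul (a b d a' b' d' : K) :
    uni a b d * uni a' b' d' = uni (a + a') (b + b') (d + d' + a * b') := by
  apply Matrix.SpecialLinearGroup.ext
  intro i j
  change ((uni a b d).1 * (uni a' b' d').1) i j = (uni _ _ _).1 i j
  fin_cases i <;> fin_cases j <;>
    simp [uni, Matrix.mul_apply, Fin.sum_univ_three] <;> ring

theorem uni_zero : uni (0 : K) 0 0 = 1 := by
  apply Matrix.SpecialLinearGroup.ext
  intro i j
  fin_cases i <;> fin_cases j <;> simp [uni]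

theorem uni_inj {a b d a' b' d' : K} (h : uni a b d = uni a' b' d') :
    a = a' ∧ b = b' ∧ d = d' := by
  have h01 := congrArg (fun M : SpecialLinearGroup (Fin 3) K => (M : Matrix (Fin 3) (Fin 3) K) 0 1) h
  have h12 := congrArg (fun M : SpecialLinearGroup (Fin 3) K => (M : Matrix (Fin 3) (Fin 3) K) 1 2) h
  have h02 := congrArg (fun M : SpecialLinearGroup (Fin 3) K => (M : Matrix (Fin 3) (Fin 3) K) 0 2) h
  simp [uni] at h01 h12 h02
  exact ⟨h01, h12, h02⟩

theorem uni_inv (a b d : K) : (uni a b d)⁻¹ = uni (-a) (-b) (-d + a * b) := by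
  refine inv_eq_of_mul_eq_one_right ?_
  rw [uni_mul, ← uni_zero]
  congr 1 <;> ring

theorem uni_conj (a b d a' b' d' : K) :
    uni a b d * uni a' b' d' * (uni a b d)⁻¹ * (uni a' b' d')⁻¹ = uni 0 0 (a * b' - a' * b) := by
  simp only [uni_inv, uni_mul]
  congr 1 <;> ring

theorem uni_commute_iff {a b d a' b' d' : K} :
    uni a b d * uni a' b' d' = uni a' b' d' * uni a b d ↔ a * b' = a' * b := by
  rw [uni_mul, uni_mul]
  constructor
  · intro h
    linear_combination (uni_inj h).2.2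
  · intro h
    congr 1 <;> first | ring1 | linear_combination h

/-- The unitriangular subgroup. -/
def utSub (K : Type v) [Field K] : Subgroup (SpecialLinearGroup (Fin 3) K) where
  carrier := Set.range fun t : K × K × K => uni t.1 t.2.1 t.2.2
  one_mem' := ⟨(0, 0, 0), uni_zero⟩
  mul_mem' := by
    rintro _ _ ⟨s, rfl⟩ ⟨t, rfl⟩
    exact ⟨(_, _, _), (uni_mul _ _ _ _ _ _).symm⟩
  inv_mem' := by
    rintro _ ⟨s, rfl⟩
    exact ⟨(_, _, _), (uni_inv _ _ _).symm⟩

/-- The centre of the unitriangular subgroup. -/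
def utCenter (K : Type v) [Field K] : Subgroup (SpecialLinearGroup (Fin 3) K) where
  carrier := Set.range fun d : K => uni 0 0 d
  one_mem' := ⟨0, uni_zero⟩
  mul_mem' := by
    rintro _ _ ⟨s, rfl⟩ ⟨t, rfl⟩
    exact ⟨s + t, by simp [uni_mul]⟩
  inv_mem' := by
    rintro _ ⟨s, rfl⟩
    exact ⟨-s, by simp [uni_inv]⟩

theorem card_utSub [Fintype K] : Nat.card (utSub K) = Fintype.card K ^ 3 := by
  have hinj : Function.Injective fun t : K × K × K => uni t.1 t.2.1 t.2.2 := fun s t h => by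
    obtain ⟨h1, h2, h3⟩ := uni_inj h
    exact Prod.ext h1 (Prod.ext h2 h3)
  rw [show Nat.card (utSub K) = Nat.card (K × K × K) from
    (Nat.card_congr (Equiv.ofInjective _ hinj)).symm, Nat.card_prod, Nat.card_prod,
    Nat.card_eq_fintype_card]
  ring

/-- The Heisenberg shape of the unitriangular subgroup. -/
theorem heisLike_ut : HeisLike (utSub K) (utCenter K) where
  le := by
    rintro _ ⟨d, rfl⟩
    exact ⟨(0, 0, d), rfl⟩
  central := by
    rintro _ ⟨s, rfl⟩ _ ⟨d, rfl⟩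
    exact uni_commute_iff.mpr (by simp)
  comm_mem := by
    rintro _ ⟨s, rfl⟩ _ ⟨t, rfl⟩
    exact ⟨_, (uni_conj _ _ _ _ _ _).symm⟩
  comm_surj := by
    rintro _ ⟨⟨a, b, d⟩, rfl⟩ hnot _ ⟨z, rfl⟩
    by_cases hb : b = 0
    · have ha : a ≠ 0 := fun ha => hnot ⟨d, by simp [ha, hb]⟩
      refine ⟨uni 0 (-(z / a)) 0, ⟨(_, _, _), rfl⟩, ?_⟩
      rw [uni_conj]
      congr 1
      rw [hb]
      field_simp
      ring
    · refine ⟨uni (z / b) 0 0, ⟨(_, _, _), rfl⟩, ?_⟩
      rw [uni_conj]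
      congr 1
      field_simp
      ring
  abel := by
    rintro _ ⟨⟨a, b, d⟩, rfl⟩ hnot _ ⟨s, rfl⟩ _ ⟨t, rfl⟩ hs ht
    rw [uni_commute_iff] at hs ht ⊢
    dsimp only at hs ht
    by_cases hb : b = 0
    · have ha : a ≠ 0 := fun ha => hnot ⟨d, by simp [ha, hb]⟩
      subst hb
      have e1 : s.2.1 = 0 := by simpa [ha, eq_comm] using hs
      have e2 : t.2.1 = 0 := by simpa [ha, eq_comm] using ht
      rw [e1, e2, mul_zero, mul_zero]
    · exact mul_right_cancel₀ hb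
        (by linear_combination t.2.1 * hs - s.2.1 * ht)

/-- Heisenberg shape along an isomorphism. -/
theorem HeisLike.of_equiv {Ω : Type u} [Group Ω] {S : Subgroup Ω} {G : Type v} [Group G]
    {U Z₀ : Subgroup G} (h : HeisLike U Z₀) (e : S ≃* U) :
    HeisLike S ((Z₀.subgroupOf U).comap e.toMonoidHom |>.map S.subtype) := by
  set Z := (Z₀.subgroupOf U).comap e.toMonoidHom |>.map S.subtype with hZ
  have hmem : ∀ x : S, (x : Ω) ∈ Z ↔ (e x : G) ∈ Z₀ := fun x => by
    constructor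
    · rintro ⟨y, hy, hyx⟩
      rw [← show y = x from Subtype.ext hyx]
      exact hy
    · exact fun hx => ⟨x, hx, rfl⟩
  have hinj : ∀ {x y : S}, (e x : G) = e y → (x : Ω) = y := fun h' =>
    congrArg Subtype.val (e.injective (Subtype.ext h'))
  have hle : Z ≤ S := Subgroup.map_subtype_le _
  refine ⟨hle, fun s hs z hz => ?_, fun x hx y hy => ?_, fun x hx hxZ z hz => ?_,
    fun x hx hxZ a ha b hb hax hbx => ?_⟩
  · refine hinj (x := ⟨s, hs⟩ * ⟨z, hle hz⟩) (y := ⟨z, hle hz⟩ * ⟨s, hs⟩) ?_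
    rw [map_mul, map_mul, Subgroup.coe_mul, Subgroup.coe_mul]
    exact h.central _ (e _).2 _ ((hmem _).mp hz)
  · refine (hmem (⟨x, hx⟩ * ⟨y, hy⟩ * ⟨x, hx⟩⁻¹ * ⟨y, hy⟩⁻¹)).mpr ?_
    rw [map_mul, map_mul, map_mul, map_inv, map_inv]
    simpa using h.comm_mem _ (e ⟨x, hx⟩).2 _ (e ⟨y, hy⟩).2
  · obtain ⟨y, hy, he⟩ := h.comm_surj _ (e ⟨x, hx⟩).2 (fun h' => hxZ ((hmem ⟨x, hx⟩).mpr h')) _
      ((hmem ⟨z, hle hz⟩).mp hz)
    refine ⟨e.symm ⟨y, hy⟩, (e.symm _).2, ?_⟩
    refine hinj (x := e.symm ⟨y, hy⟩ * ⟨x, hx⟩ * (e.symm ⟨y, hy⟩)⁻¹ * ⟨x, hx⟩⁻¹)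
      (y := ⟨z, hle hz⟩) ?_
    rw [map_mul, map_mul, map_mul, map_inv, map_inv, MulEquiv.apply_symm_apply]
    simpa using he
  · have key : ∀ {u v : S}, (u : Ω) * v = v * u → (e u : G) * e v = e v * e u := fun {u v} huv => by
      rw [← Subgroup.coe_mul, ← Subgroup.coe_mul, ← map_mul, ← map_mul]
      exact congrArg (fun w : S => (e w : G)) (Subtype.ext huv)
    refine hinj (x := ⟨a, ha⟩ * ⟨b, hb⟩) (y := ⟨b, hb⟩ * ⟨a, ha⟩) ?_
    rw [map_mul, map_mul, Subgroup.coe_mul, Subgroup.coe_mul]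
    exact h.abel _ (e ⟨x, hx⟩).2 (fun h' => hxZ ((hmem ⟨x, hx⟩).mpr h')) _ (e ⟨a, ha⟩).2 _
      (e ⟨b, hb⟩).2 (key hax) (key hbx)

/-- A Sylow subgroup of `SL₃` in the defining characteristic is the unitriangular group. -/
theorem exists_equiv_ut [Fintype K] (p : ℕ) [Fact p.Prime] [CharP K p]
    (T : Sylow p (SpecialLinearGroup (Fin 3) K)) :
    Nonempty ((T : Subgroup (SpecialLinearGroup (Fin 3) K)) ≃* utSub K) := by
  classical
  obtain ⟨f, -, hf⟩ := ClassicalLinear.card_field_eq_pow (F := K) p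
  have hp : IsPGroup p (utSub K) := IsPGroup.of_card (n := f * 3)
    (by rw [card_utSub, hf, pow_mul])
  obtain ⟨R, hR⟩ := hp.exists_le_sylow
  have heq : utSub K = R := Subgroup.eq_of_le_of_card_ge hR (by
    rw [card_utSub, ClassicalLinear.card_sylow_SL p R, Fintype.card_fin])
  exact ⟨(Sylow.equiv T R).trans (MulEquiv.subgroupCongr heq.symm)⟩

end CfsgLib.FusionHeis
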